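import Mathlib

/-!
# The free Picard category on a symmetric monoidal category (helper12)

Objects: formal words in objects of `A`, a unit, tensor products and formal inverses.
Morphisms: formal composites, inverses and tensor products of identities, images of morphisms of `A`,
associators, unitors, braidings, the lax structure `μ, ε` of `i : A ⥤ V` and `η_W : 𝟙 ⟶ W ⊗ W⁻¹`,
modulo the relations of a symmetric monoidal groupoid for which `i` is a lax braided functor.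
-/

set_option autoImplicit false

universe v u

namespace Groth.Agent.Lib.Helper12.Picardification

open CategoryTheory MonoidalCategory

/-- objects of the free Picard category -/
inductive PObj (A : Type u) : Type u
  | of : A → PObj A
  | unit : PObj A
  | tensor : PObj A → PObj A → PObj A
  | inv : PObj A → PObj A

variable {A : Type u} [Category.{v} A] [MonoidalCategory A] [SymmetricCategory A]

/-- formal morphisms -/
inductive Hom : PObj A → PObj A → Type (max u v)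
  | id (X : PObj A) : Hom X X
  | comp {X Y Z : PObj A} (f : Hom X Y) (g : Hom Y Z) : Hom X Z
  | inv {X Y : PObj A} (f : Hom X Y) : Hom Y X
  | tensor {W X Y Z : PObj A} (f : Hom W Y) (g : Hom X Z) : Hom (W.tensor X) (Y.tensor Z)
  | of {X Y : A} (f : X ⟶ Y) : Hom (PObj.of X) (PObj.of Y)
  | α (X Y Z : PObj A) : Hom ((X.tensor Y).tensor Z) (X.tensor (Y.tensor Z))
  | l (X : PObj A) : Hom (PObj.unit.tensor X) X
  | r (X : PObj A) : Hom (X.tensor PObj.unit) X
  | β (X Y : PObj A) : Hom (X.tensor Y) (Y.tensor X)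
  | μ (X Y : A) : Hom ((PObj.of X).tensor (PObj.of Y)) (PObj.of (X ⊗ Y))
  | ε : Hom PObj.unit (PObj.of (𝟙_ A))
  | η (X : PObj A) : Hom PObj.unit (X.tensor X.inv)

local infixr:10 " ⟶ᵖ " => Hom

/-- the relations -/
inductive HomEquiv : ∀ {X Y : PObj A}, (X ⟶ᵖ Y) → (X ⟶ᵖ Y) → Prop
  | refl {X Y} (f : X ⟶ᵖ Y) : HomEquiv f f
  | symm {X Y} (f g : X ⟶ᵖ Y) : HomEquiv f g → HomEquiv g f
  | trans {X Y} {f g h : X ⟶ᵖ Y} : HomEquiv f g → HomEquiv g h → HomEquiv f h
  | comp {X Y Z} {f f' : X ⟶ᵖ Y} {g g' : Y ⟶ᵖ Z} :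
      HomEquiv f f' → HomEquiv g g' → HomEquiv (f.comp g) (f'.comp g')
  | tensor {W X Y Z} {f f' : W ⟶ᵖ X} {g g' : Y ⟶ᵖ Z} :
      HomEquiv f f' → HomEquiv g g' → HomEquiv (f.tensor g) (f'.tensor g')
  | inv {X Y} {f f' : X ⟶ᵖ Y} : HomEquiv f f' → HomEquiv f.inv f'.inv
  | comp_id {X Y} (f : X ⟶ᵖ Y) : HomEquiv (f.comp (Hom.id _)) f
  | id_comp {X Y} (f : X ⟶ᵖ Y) : HomEquiv ((Hom.id _).comp f) f
  | assoc {X Y U V : PObj A} (f : X ⟶ᵖ U) (g : U ⟶ᵖ V) (h : V ⟶ᵖ Y) :
      HomEquiv ((f.comp g).comp h) (f.comp (g.comp h))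
  | comp_inv {X Y} (f : X ⟶ᵖ Y) : HomEquiv (f.comp f.inv) (Hom.id _)
  | inv_comp {X Y} (f : X ⟶ᵖ Y) : HomEquiv (f.inv.comp f) (Hom.id _)
  | id_tensor_id {X Y : PObj A} : HomEquiv ((Hom.id X).tensor (Hom.id Y)) (Hom.id _)
  | tensor_comp {X₁ Y₁ Z₁ X₂ Y₂ Z₂ : PObj A} (f₁ : X₁ ⟶ᵖ Y₁) (f₂ : X₂ ⟶ᵖ Y₂)
      (g₁ : Y₁ ⟶ᵖ Z₁) (g₂ : Y₂ ⟶ᵖ Z₂) :
      HomEquiv ((f₁.tensor f₂).comp (g₁.tensor g₂)) ((f₁.comp g₁).tensor (f₂.comp g₂))
  | α_naturality {X₁ X₂ X₃ Y₁ Y₂ Y₃ : PObj A} (f₁ : X₁ ⟶ᵖ Y₁) (f₂ : X₂ ⟶ᵖ Y₂) (f₃ : X₃ ⟶ᵖ Y₃) :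
      HomEquiv (((f₁.tensor f₂).tensor f₃).comp (Hom.α Y₁ Y₂ Y₃))
        ((Hom.α X₁ X₂ X₃).comp (f₁.tensor (f₂.tensor f₃)))
  | l_naturality {X Y : PObj A} (f : X ⟶ᵖ Y) :
      HomEquiv (((Hom.id PObj.unit).tensor f).comp (Hom.l Y)) ((Hom.l X).comp f)
  | r_naturality {X Y : PObj A} (f : X ⟶ᵖ Y) :
      HomEquiv ((f.tensor (Hom.id PObj.unit)).comp (Hom.r Y)) ((Hom.r X).comp f)
  | pentagon {W X Y Z : PObj A} :
      HomEquiv
        (((Hom.α W X Y).tensor (Hom.id Z)).comp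
          ((Hom.α W (X.tensor Y) Z).comp ((Hom.id W).tensor (Hom.α X Y Z))))
        ((Hom.α (W.tensor X) Y Z).comp (Hom.α W X (Y.tensor Z)))
  | triangle {X Y : PObj A} :
      HomEquiv ((Hom.α X PObj.unit Y).comp ((Hom.id X).tensor (Hom.l Y)))
        ((Hom.r X).tensor (Hom.id Y))
  | β_naturality {X₁ X₂ Y₁ Y₂ : PObj A} (f : X₁ ⟶ᵖ Y₁) (g : X₂ ⟶ᵖ Y₂) :
      HomEquiv ((f.tensor g).comp (Hom.β Y₁ Y₂)) ((Hom.β X₁ X₂).comp (g.tensor f))
  | hexagon_forward (X Y Z : PObj A) :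
      HomEquiv ((Hom.α X Y Z).comp ((Hom.β X (Y.tensor Z)).comp (Hom.α Y Z X)))
        (((Hom.β X Y).tensor (Hom.id Z)).comp ((Hom.α Y X Z).comp ((Hom.id Y).tensor (Hom.β X Z))))
  | hexagon_reverse (X Y Z : PObj A) :
      HomEquiv ((Hom.α X Y Z).inv.comp ((Hom.β (X.tensor Y) Z).comp (Hom.α Z X Y).inv))
        (((Hom.id X).tensor (Hom.β Y Z)).comp ((Hom.α X Z Y).inv.comp ((Hom.β X Z).tensor (Hom.id Y))))
  | symmetry (X Y : PObj A) : HomEquiv ((Hom.β X Y).comp (Hom.β Y X)) (Hom.id _)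
  | of_id (X : A) : HomEquiv (Hom.of (𝟙 X)) (Hom.id _)
  | of_comp {X Y Z : A} (f : X ⟶ Y) (g : Y ⟶ Z) : HomEquiv (Hom.of (f ≫ g)) ((Hom.of f).comp (Hom.of g))
  | μ_natural {X Y X' Y' : A} (f : X ⟶ Y) (g : X' ⟶ Y') :
      HomEquiv (((Hom.of f).tensor (Hom.of g)).comp (Hom.μ Y Y')) ((Hom.μ X X').comp (Hom.of (f ⊗ₘ g)))
  | associativity (X Y Z : A) :
      HomEquiv (((Hom.μ X Y).tensor (Hom.id (PObj.of Z))).comp
          ((Hom.μ (X ⊗ Y) Z).comp (Hom.of (α_ X Y Z).hom)))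
        ((Hom.α (PObj.of X) (PObj.of Y) (PObj.of Z)).comp
          (((Hom.id (PObj.of X)).tensor (Hom.μ Y Z)).comp (Hom.μ X (Y ⊗ Z))))
  | left_unitality (X : A) :
      HomEquiv (Hom.l (PObj.of X))
        ((Hom.ε.tensor (Hom.id (PObj.of X))).comp ((Hom.μ (𝟙_ A) X).comp (Hom.of (λ_ X).hom)))
  | right_unitality (X : A) :
      HomEquiv (Hom.r (PObj.of X))
        (((Hom.id (PObj.of X)).tensor Hom.ε).comp ((Hom.μ X (𝟙_ A)).comp (Hom.of (ρ_ X).hom)))
  | braided (X Y : A) :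
      HomEquiv ((Hom.μ X Y).comp (Hom.of (β_ X Y).hom))
        ((Hom.β (PObj.of X) (PObj.of Y)).comp (Hom.μ Y X))

instance setoidHom (X Y : PObj A) : Setoid (X ⟶ᵖ Y) :=
  ⟨HomEquiv, ⟨HomEquiv.refl, HomEquiv.symm _ _, HomEquiv.trans⟩⟩

open HomEquiv

instance categoryPObj : Category.{max u v} (PObj A) where
  Hom X Y := Quotient (setoidHom X Y)
  id X := ⟦Hom.id X⟧
  comp := Quotient.map₂ Hom.comp (fun _ _ hf _ _ hg ↦ HomEquiv.comp hf hg)
  id_comp := by
    rintro X Y ⟨f⟩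
    exact Quotient.sound (id_comp f)
  comp_id := by
    rintro X Y ⟨f⟩
    exact Quotient.sound (comp_id f)
  assoc := by
    rintro W X Y Z ⟨f⟩ ⟨g⟩ ⟨h⟩
    exact Quotient.sound (assoc f g h)

/-- The abbreviation for `⟦f⟧`. -/
abbrev homMk {X Y : PObj A} (f : X ⟶ᵖ Y) : X ⟶ Y := ⟦f⟧

lemma homMk_comp {X Y Z : PObj A} (f : X ⟶ᵖ Y) (g : Y ⟶ᵖ Z) :
    homMk (f.comp g) = homMk f ≫ homMk g := rfl

lemma homMk_id (X : PObj A) : homMk (Hom.id X) = 𝟙 X := rfl

/-- the iso attached to a formal morphism -/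
def isoMk {X Y : PObj A} (f : X ⟶ᵖ Y) : X ≅ Y :=
  ⟨homMk f, homMk f.inv, Quotient.sound (comp_inv f), Quotient.sound (inv_comp f)⟩

instance : MonoidalCategoryStruct (PObj A) where
  tensorObj X Y := PObj.tensor X Y
  tensorHom := Quotient.map₂ Hom.tensor (fun _ _ hf _ _ hg ↦ HomEquiv.tensor hf hg)
  whiskerLeft X _ _ f := Quotient.map₂ Hom.tensor (fun _ _ hf _ _ hg ↦ HomEquiv.tensor hf hg)
    (homMk (Hom.id X)) f
  whiskerRight f Y := Quotient.map₂ Hom.tensor (fun _ _ hf _ _ hg ↦ HomEquiv.tensor hf hg)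
    f (homMk (Hom.id Y))
  tensorUnit := PObj.unit
  associator X Y Z := isoMk (Hom.α X Y Z)
  leftUnitor X := isoMk (Hom.l X)
  rightUnitor X := isoMk (Hom.r X)

lemma homMk_tensor {W X Y Z : PObj A} (f : W ⟶ᵖ Y) (g : X ⟶ᵖ Z) :
    homMk (f.tensor g) = homMk f ⊗ₘ homMk g := rfl

instance : MonoidalCategory (PObj A) :=
  MonoidalCategory.ofTensorHom
    (id_tensorHom_id := fun _ _ => Quotient.sound id_tensor_id)
    (id_tensorHom := fun _ _ _ _ => rfl)
    (tensorHom_id := fun _ _ => rfl)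
    (tensorHom_comp_tensorHom := by
      rintro X₁ Y₁ Z₁ X₂ Y₂ Z₂ ⟨f₁⟩ ⟨f₂⟩ ⟨g₁⟩ ⟨g₂⟩
      exact Quotient.sound (tensor_comp _ _ _ _))
    (associator_naturality := by
      rintro X₁ X₂ X₃ Y₁ Y₂ Y₃ ⟨f₁⟩ ⟨f₂⟩ ⟨f₃⟩
      exact Quotient.sound (α_naturality _ _ _))
    (leftUnitor_naturality := by
      rintro X Y ⟨f⟩
      exact Quotient.sound (l_naturality _))
    (rightUnitor_naturality := by
      rintro X Y ⟨f⟩
      exact Quotient.sound (r_naturality _))
    (pentagon := fun _ _ _ _ => Quotient.sound pentagon)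
    (triangle := fun _ _ => Quotient.sound triangle)

instance : SymmetricCategory (PObj A) where
  braiding X Y := ⟨homMk (Hom.β X Y), homMk (Hom.β Y X), Quotient.sound (symmetry X Y),
    Quotient.sound (symmetry Y X)⟩
  braiding_naturality_right := by
    rintro X Y Z ⟨f⟩
    exact Quotient.sound (β_naturality (Hom.id X) f)
  braiding_naturality_left := by
    rintro X Y ⟨f⟩ Z
    exact Quotient.sound (β_naturality f (Hom.id Z))
  hexagon_forward X Y Z := Quotient.sound (hexagon_forward X Y Z)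
  hexagon_reverse X Y Z := Quotient.sound (hexagon_reverse X Y Z)
  symmetry X Y := Quotient.sound (symmetry X Y)

lemma homMk_β (X Y : PObj A) : homMk (Hom.β X Y) = (β_ X Y).hom := rfl
lemma homMk_α (X Y Z : PObj A) : homMk (Hom.α X Y Z) = (α_ X Y Z).hom := rfl
lemma homMk_l (X : PObj A) : homMk (Hom.l X) = (λ_ X).hom := rfl
lemma homMk_r (X : PObj A) : homMk (Hom.r X) = (ρ_ X).hom := rfl
lemma homMk_inv {X Y : PObj A} (f : X ⟶ᵖ Y) : homMk f.inv = (isoMk f).inv := rfl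

instance : IsGroupoid (PObj A) where
  all_isIso := by
    rintro X Y ⟨f⟩
    exact (isoMk f).isIso_hom

/-- the canonical functor `A ⥤ V` -/
def incl : A ⥤ PObj A where
  obj := PObj.of
  map f := homMk (Hom.of f)
  map_id X := Quotient.sound (of_id X)
  map_comp f g := Quotient.sound (of_comp f g)

instance inclLaxMonoidal : (incl (A := A)).LaxMonoidal :=
  Functor.LaxMonoidal.ofTensorHom (F := incl (A := A))
    (ε := homMk Hom.ε) (μ := fun X Y => homMk (Hom.μ X Y))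
    (μ_natural := fun f g => Quotient.sound (μ_natural f g))
    (associativity := fun X Y Z => Quotient.sound (associativity X Y Z))
    (left_unitality := fun X => Quotient.sound (left_unitality X))
    (right_unitality := fun X => Quotient.sound (right_unitality X))

instance inclLaxBraided : (incl (A := A)).LaxBraided where
  braided X Y := Quotient.sound (braided X Y)

lemma incl_obj (X : A) : (incl (A := A)).obj X = PObj.of X := rfl
lemma incl_map {X Y : A} (f : X ⟶ Y) : (incl (A := A)).map f = homMk (Hom.of f) := rfl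
lemma incl_μ (X Y : A) : Functor.LaxMonoidal.μ (incl (A := A)) X Y = homMk (Hom.μ X Y) := rfl
lemma incl_ε : Functor.LaxMonoidal.ε (incl (A := A)) = homMk Hom.ε := rfl

/-- the unit iso `𝟙 ≅ W ⊗ W⁻¹` -/
def ηIso (W : PObj A) : 𝟙_ (PObj A) ≅ W ⊗ W.inv := isoMk (Hom.η W)

section general

variable {C : Type*} [Category C] [MonoidalCategory C]

/-- tensoring on the left with an invertible object is an equivalence -/
lemma tensorLeft_isEquivalence_of_iso (W W' : C) (e : 𝟙_ C ≅ W ⊗ W') (e' : 𝟙_ C ≅ W' ⊗ W) :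
    (tensorLeft W).IsEquivalence := by
  let E : C ≌ C := CategoryTheory.Equivalence.mk (tensorLeft W) (tensorLeft W')
    (NatIso.ofComponents (fun Z => (λ_ Z).symm ≪≫ whiskerRightIso e' Z ≪≫ α_ W' W Z)
      (by
        intro X Y f
        dsimp
        simp only [whiskerRightIso_hom, whiskerLeftIso_hom, Iso.symm_hom, Category.assoc]
        rw [leftUnitor_inv_naturality_assoc, whisker_exchange_assoc, tensor_whiskerLeft]
        simp))
    (NatIso.ofComponents (fun Z => (α_ W W' Z).symm ≪≫ whiskerRightIso e.symm Z ≪≫ λ_ Z)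
      (by
        intro X Y f
        dsimp
        simp only [whiskerRightIso_hom, whiskerLeftIso_hom, Iso.symm_hom, Category.assoc]
        rw [associator_inv_naturality_right_assoc, whisker_exchange_assoc,
          leftUnitor_naturality]))
  exact E.isEquivalence_functor

/-- tensoring on the right with an invertible object is an equivalence -/
lemma tensorRight_isEquivalence_of_iso (W W' : C) (e : 𝟙_ C ≅ W ⊗ W') (e' : 𝟙_ C ≅ W' ⊗ W) :
    (tensorRight W).IsEquivalence := by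
  let E : C ≌ C := CategoryTheory.Equivalence.mk (tensorRight W) (tensorRight W')
    (NatIso.ofComponents (fun Z => (ρ_ Z).symm ≪≫ whiskerLeftIso Z e ≪≫ (α_ Z W W').symm)
      (by
        intro X Y f
        dsimp
        simp only [whiskerRightIso_hom, whiskerLeftIso_hom, Iso.symm_hom, Category.assoc]
        rw [rightUnitor_inv_naturality_assoc, ← whisker_exchange_assoc,
          associator_inv_naturality_left])
      )
    (NatIso.ofComponents (fun Z => α_ Z W' W ≪≫ whiskerLeftIso Z e'.symm ≪≫ ρ_ Z)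
      (by
        intro X Y f
        dsimp
        simp only [whiskerRightIso_hom, whiskerLeftIso_hom, Iso.symm_hom, Category.assoc]
        rw [associator_naturality_left_assoc, ← whisker_exchange_assoc,
          rightUnitor_naturality]))
  exact E.isEquivalence_functor

end general

theorem picard (W : PObj A) : (tensorLeft W).IsEquivalence ∧ (tensorRight W).IsEquivalence :=
  ⟨tensorLeft_isEquivalence_of_iso W W.inv (ηIso W) (ηIso W ≪≫ β_ W W.inv),
   tensorRight_isEquivalence_of_iso W W.inv (ηIso W) (ηIso W ≪≫ β_ W W.inv)⟩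

end Groth.Agent.Lib.Helper12.Picardification
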