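import Groth.Agent.Lib.Helper12.Picardification.Free

/-!
# The free Picard category: extension of lax braided functors (helper12)
-/

set_option autoImplicit false

universe v v' u u'

namespace Groth.Agent.Lib.Helper12.Picardification

open CategoryTheory MonoidalCategory

variable {A : Type u} [Category.{v} A] [MonoidalCategory A] [SymmetricCategory A]
variable {P : Type u'} [Category.{v'} P] [MonoidalCategory P] [SymmetricCategory P] [IsGroupoid P]
variable (hP : ∀ X : P, (tensorLeft X).IsEquivalence ∧ (tensorRight X).IsEquivalence)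

/-- a chosen inverse of an object of a Picard category -/
noncomputable def invObj (L : P) : P :=
  haveI := (hP L).1
  (tensorLeft L).objPreimage (𝟙_ P)

/-- the chosen iso `𝟙 ≅ L ⊗ L⁻¹` -/
noncomputable def invIso (L : P) : 𝟙_ P ≅ L ⊗ invObj hP L :=
  haveI := (hP L).1
  ((tensorLeft L).objObjPreimageIso (𝟙_ P)).symm

variable (Φ : A ⥤ P) [Φ.LaxBraided]

/-- the extension on objects -/
noncomputable def objP : PObj A → P
  | PObj.of X => Φ.obj X
  | PObj.unit => 𝟙_ P
  | PObj.tensor X Y => objP X ⊗ objP Y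
  | PObj.inv X => invObj hP (objP X)

/-- the extension on formal morphisms -/
noncomputable def homP : ∀ {X Y : PObj A}, Hom X Y → (objP hP Φ X ⟶ objP hP Φ Y)
  | _, _, Hom.id _ => 𝟙 _
  | _, _, Hom.comp f g => homP f ≫ homP g
  | _, _, Hom.inv f => CategoryTheory.inv (homP f)
  | _, _, Hom.tensor f g => homP f ⊗ₘ homP g
  | _, _, Hom.of f => Φ.map f
  | _, _, Hom.α _ _ _ => (α_ _ _ _).hom
  | _, _, Hom.l _ => (λ_ _).hom
  | _, _, Hom.r _ => (ρ_ _).hom
  | _, _, Hom.β _ _ => (β_ _ _).hom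
  | _, _, Hom.μ X Y => Functor.LaxMonoidal.μ Φ X Y
  | _, _, Hom.ε => Functor.LaxMonoidal.ε Φ
  | _, _, Hom.η X => (invIso hP (objP hP Φ X)).hom

lemma homP_respects {X Y : PObj A} (f g : Hom X Y) (h : HomEquiv f g) :
    homP hP Φ f = homP hP Φ g := by
  induction h with
  | refl => rfl
  | symm _ _ _ hfg' => exact hfg'.symm
  | trans _ _ hfg hgh => exact hfg.trans hgh
  | comp _ _ hf hg => dsimp only [homP, objP]; rw [hf, hg]
  | tensor _ _ hf hg => dsimp only [homP, objP]; rw [hf, hg]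
  | inv _ hf => simp only [homP, hf]
  | comp_id => dsimp only [homP, objP]; rw [Category.comp_id]
  | id_comp => dsimp only [homP, objP]; rw [Category.id_comp]
  | assoc => dsimp only [homP, objP]; rw [Category.assoc]
  | comp_inv => dsimp only [homP, objP]; rw [IsIso.hom_inv_id]
  | inv_comp => dsimp only [homP, objP]; rw [IsIso.inv_hom_id]
  | id_tensor_id => dsimp only [homP, objP]; rw [MonoidalCategory.id_tensorHom_id]
  | tensor_comp => dsimp only [homP, objP]; rw [MonoidalCategory.tensorHom_comp_tensorHom]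
  | α_naturality => dsimp only [homP, objP]; rw [MonoidalCategory.associator_naturality]
  | l_naturality => dsimp only [homP, objP]; rw [id_tensorHom, leftUnitor_naturality]
  | r_naturality => dsimp only [homP, objP]; rw [tensorHom_id, rightUnitor_naturality]
  | pentagon =>
      dsimp only [homP, objP]
      rw [tensorHom_id, id_tensorHom, MonoidalCategory.pentagon]
  | triangle =>
      dsimp only [homP, objP]
      rw [tensorHom_id, id_tensorHom, MonoidalCategory.triangle]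
  | β_naturality => dsimp only [homP, objP]; rw [BraidedCategory.braiding_naturality]
  | hexagon_forward =>
      dsimp only [homP, objP]
      rw [tensorHom_id, id_tensorHom, BraidedCategory.hexagon_forward]
  | hexagon_reverse =>
      dsimp only [homP, objP]
      rw [tensorHom_id, id_tensorHom, IsIso.Iso.inv_hom, IsIso.Iso.inv_hom, IsIso.Iso.inv_hom,
        BraidedCategory.hexagon_reverse]
  | symmetry => dsimp only [homP, objP]; rw [SymmetricCategory.symmetry]
  | of_id => dsimp only [homP, objP]; rw [Φ.map_id]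
  | of_comp => dsimp only [homP, objP]; rw [Φ.map_comp]
  | μ_natural => dsimp only [homP, objP]; rw [Functor.LaxMonoidal.μ_natural]
  | associativity =>
      dsimp only [homP, objP]
      rw [tensorHom_id, id_tensorHom, Functor.LaxMonoidal.associativity]
  | left_unitality =>
      dsimp only [homP, objP]
      rw [tensorHom_id, ← Functor.LaxMonoidal.left_unitality]
  | right_unitality =>
      dsimp only [homP, objP]
      rw [id_tensorHom, ← Functor.LaxMonoidal.right_unitality]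
  | braided => dsimp only [homP, objP]; rw [Functor.LaxBraided.braided]

/-- the extension `V ⥤ P` -/
noncomputable def lift : PObj A ⥤ P where
  obj := objP hP Φ
  map := Quotient.lift (homP hP Φ) (homP_respects hP Φ)
  map_id _ := rfl
  map_comp := by rintro _ _ _ ⟨_⟩ ⟨_⟩; rfl

lemma lift_map_homMk {X Y : PObj A} (f : Hom X Y) : (lift hP Φ).map (homMk f) = homP hP Φ f := rfl

lemma lift_obj_tensor (X Y : PObj A) :
    (lift hP Φ).obj (X ⊗ Y) = (lift hP Φ).obj X ⊗ (lift hP Φ).obj Y := rfl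

lemma lift_obj_unit : (lift hP Φ).obj (𝟙_ (PObj A)) = 𝟙_ P := rfl

noncomputable instance liftLaxMonoidal : (lift hP Φ).LaxMonoidal :=
  Functor.LaxMonoidal.ofTensorHom (F := lift hP Φ)
    (ε := 𝟙 _) (μ := fun _ _ => 𝟙 _)
    (μ_natural := by
      rintro X Y X' Y' ⟨f⟩ ⟨g⟩
      show (homP hP Φ f ⊗ₘ homP hP Φ g) ≫ 𝟙 _ = 𝟙 _ ≫ (homP hP Φ f ⊗ₘ homP hP Φ g)
      rw [Category.comp_id, Category.id_comp])
    (associativity := by
      intro X Y Z
      show (𝟙 (objP hP Φ X ⊗ objP hP Φ Y) ⊗ₘ 𝟙 (objP hP Φ Z)) ≫ 𝟙 _ ≫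
          (α_ (objP hP Φ X) (objP hP Φ Y) (objP hP Φ Z)).hom =
        (α_ (objP hP Φ X) (objP hP Φ Y) (objP hP Φ Z)).hom ≫
          (𝟙 (objP hP Φ X) ⊗ₘ 𝟙 (objP hP Φ Y ⊗ objP hP Φ Z)) ≫ 𝟙 _
      simp)
    (left_unitality := by
      intro X
      show (λ_ (objP hP Φ X)).hom = (𝟙 (𝟙_ P) ⊗ₘ 𝟙 (objP hP Φ X)) ≫ 𝟙 _ ≫ (λ_ (objP hP Φ X)).hom
      simp)
    (right_unitality := by
      intro X
      show (ρ_ (objP hP Φ X)).hom = (𝟙 (objP hP Φ X) ⊗ₘ 𝟙 (𝟙_ P)) ≫ 𝟙 _ ≫ (ρ_ (objP hP Φ X)).hom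
      simp)

lemma lift_μ (X Y : PObj A) : Functor.LaxMonoidal.μ (lift hP Φ) X Y = 𝟙 _ := rfl
lemma lift_ε : Functor.LaxMonoidal.ε (lift hP Φ) = 𝟙 _ := rfl

noncomputable instance liftLaxBraided : (lift hP Φ).LaxBraided where
  braided X Y := by
    show 𝟙 _ ≫ (β_ (objP hP Φ X) (objP hP Φ Y)).hom = (β_ (objP hP Φ X) (objP hP Φ Y)).hom ≫ 𝟙 _
    rw [Category.comp_id, Category.id_comp]

/-- `incl ⋙ lift ≅ Φ` -/
noncomputable def liftIso : incl (A := A) ⋙ lift hP Φ ≅ Φ :=
  NatIso.ofComponents (fun X => Iso.refl _) (by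
    intro X Y f
    show Φ.map f ≫ 𝟙 _ = 𝟙 _ ≫ Φ.map f
    rw [Category.comp_id, Category.id_comp])

instance liftIso_isMonoidal : NatTrans.IsMonoidal (liftIso hP Φ).hom where
  unit := by
    show (𝟙 _ ≫ Functor.LaxMonoidal.ε Φ) ≫ 𝟙 _ = Functor.LaxMonoidal.ε Φ
    simp
  tensor X Y := by
    show (𝟙 _ ≫ Functor.LaxMonoidal.μ Φ X Y) ≫ 𝟙 _ =
      (𝟙 (Φ.obj X) ⊗ₘ 𝟙 (Φ.obj Y)) ≫ Functor.LaxMonoidal.μ Φ X Y
    simp

end Groth.Agent.Lib.Helper12.Picardification
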