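import Mathlib

/-!
# Families of morphisms compatible with lax monoidal structures are natural for the structure isos (helper12)
-/

set_option autoImplicit false

universe v v' u u'

namespace Groth.Agent.Lib.Helper12.Picardification

open CategoryTheory MonoidalCategory Functor.LaxMonoidal

section general

variable {C : Type u} [Category.{v} C] [MonoidalCategory C]
variable {D : Type u'} [Category.{v'} D] [MonoidalCategory D] [IsGroupoid D]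
variable (F G : C ⥤ D) [F.LaxMonoidal] [G.LaxMonoidal]
variable (θ : ∀ X : C, F.obj X ⟶ G.obj X)

lemma nat_tensor (hT : ∀ X Y : C, μ F X Y ≫ θ (X ⊗ Y) = (θ X ⊗ₘ θ Y) ≫ μ G X Y)
    {X₁ X₂ Y₁ Y₂ : C} (f : X₁ ⟶ Y₁) (g : X₂ ⟶ Y₂)
    (hf : F.map f ≫ θ Y₁ = θ X₁ ≫ G.map f) (hg : F.map g ≫ θ Y₂ = θ X₂ ≫ G.map g) :
    F.map (f ⊗ₘ g) ≫ θ (Y₁ ⊗ Y₂) = θ (X₁ ⊗ X₂) ≫ G.map (f ⊗ₘ g) := by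
  rw [← cancel_epi (μ F X₁ X₂)]
  calc μ F X₁ X₂ ≫ F.map (f ⊗ₘ g) ≫ θ (Y₁ ⊗ Y₂)
      = (F.map f ⊗ₘ F.map g) ≫ μ F Y₁ Y₂ ≫ θ (Y₁ ⊗ Y₂) := by rw [μ_natural_assoc]
    _ = (F.map f ⊗ₘ F.map g) ≫ (θ Y₁ ⊗ₘ θ Y₂) ≫ μ G Y₁ Y₂ := by rw [hT]
    _ = ((F.map f ≫ θ Y₁) ⊗ₘ (F.map g ≫ θ Y₂)) ≫ μ G Y₁ Y₂ := by
        rw [tensorHom_comp_tensorHom_assoc]
    _ = ((θ X₁ ≫ G.map f) ⊗ₘ (θ X₂ ≫ G.map g)) ≫ μ G Y₁ Y₂ := by rw [hf, hg]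
    _ = (θ X₁ ⊗ₘ θ X₂) ≫ (G.map f ⊗ₘ G.map g) ≫ μ G Y₁ Y₂ := by
        rw [← tensorHom_comp_tensorHom_assoc]
    _ = (θ X₁ ⊗ₘ θ X₂) ≫ μ G X₁ X₂ ≫ G.map (f ⊗ₘ g) := by rw [μ_natural]
    _ = μ F X₁ X₂ ≫ θ (X₁ ⊗ X₂) ≫ G.map (f ⊗ₘ g) := by rw [← Category.assoc, ← hT, Category.assoc]

lemma nat_α (hT : ∀ X Y : C, μ F X Y ≫ θ (X ⊗ Y) = (θ X ⊗ₘ θ Y) ≫ μ G X Y) (X Y Z : C) :
    F.map (α_ X Y Z).hom ≫ θ (X ⊗ (Y ⊗ Z)) = θ ((X ⊗ Y) ⊗ Z) ≫ G.map (α_ X Y Z).hom := by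
  have e1 : (𝟙 (F.obj X) ⊗ₘ μ F Y Z) ≫ (θ X ⊗ₘ θ (Y ⊗ Z)) =
      (θ X ⊗ₘ (θ Y ⊗ₘ θ Z)) ≫ (𝟙 (G.obj X) ⊗ₘ μ G Y Z) := by
    rw [tensorHom_comp_tensorHom, tensorHom_comp_tensorHom, Category.id_comp, Category.comp_id, hT]
  have e2 : (μ F X Y ⊗ₘ 𝟙 (F.obj Z)) ≫ (θ (X ⊗ Y) ⊗ₘ θ Z) =
      ((θ X ⊗ₘ θ Y) ⊗ₘ θ Z) ≫ (μ G X Y ⊗ₘ 𝟙 (G.obj Z)) := by
    rw [tensorHom_comp_tensorHom, tensorHom_comp_tensorHom, Category.id_comp, Category.comp_id, hT]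
  have aF : (μ F X Y ⊗ₘ 𝟙 (F.obj Z)) ≫ μ F (X ⊗ Y) Z ≫ F.map (α_ X Y Z).hom =
      (α_ (F.obj X) (F.obj Y) (F.obj Z)).hom ≫ (𝟙 (F.obj X) ⊗ₘ μ F Y Z) ≫ μ F X (Y ⊗ Z) := by
    rw [tensorHom_id, id_tensorHom, associativity]
  have aG : (μ G X Y ⊗ₘ 𝟙 (G.obj Z)) ≫ μ G (X ⊗ Y) Z ≫ G.map (α_ X Y Z).hom =
      (α_ (G.obj X) (G.obj Y) (G.obj Z)).hom ≫ (𝟙 (G.obj X) ⊗ₘ μ G Y Z) ≫ μ G X (Y ⊗ Z) := by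
    rw [tensorHom_id, id_tensorHom, associativity]
  rw [← cancel_epi (μ F (X ⊗ Y) Z), ← cancel_epi (μ F X Y ⊗ₘ 𝟙 (F.obj Z))]
  calc (μ F X Y ⊗ₘ 𝟙 (F.obj Z)) ≫ μ F (X ⊗ Y) Z ≫ F.map (α_ X Y Z).hom ≫ θ (X ⊗ (Y ⊗ Z))
      = ((μ F X Y ⊗ₘ 𝟙 (F.obj Z)) ≫ μ F (X ⊗ Y) Z ≫ F.map (α_ X Y Z).hom) ≫ θ (X ⊗ (Y ⊗ Z)) := by
        simp only [Category.assoc]
    _ = (α_ (F.obj X) (F.obj Y) (F.obj Z)).hom ≫ (𝟙 (F.obj X) ⊗ₘ μ F Y Z) ≫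
          (μ F X (Y ⊗ Z) ≫ θ (X ⊗ (Y ⊗ Z))) := by
        rw [aF]; simp only [Category.assoc]
    _ = (α_ (F.obj X) (F.obj Y) (F.obj Z)).hom ≫ ((𝟙 (F.obj X) ⊗ₘ μ F Y Z) ≫
          (θ X ⊗ₘ θ (Y ⊗ Z))) ≫ μ G X (Y ⊗ Z) := by
        rw [hT]; simp only [Category.assoc]
    _ = ((α_ (F.obj X) (F.obj Y) (F.obj Z)).hom ≫ (θ X ⊗ₘ (θ Y ⊗ₘ θ Z))) ≫
          (𝟙 (G.obj X) ⊗ₘ μ G Y Z) ≫ μ G X (Y ⊗ Z) := by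
        rw [e1]; simp only [Category.assoc]
    _ = ((θ X ⊗ₘ θ Y) ⊗ₘ θ Z) ≫ ((α_ (G.obj X) (G.obj Y) (G.obj Z)).hom ≫
          (𝟙 (G.obj X) ⊗ₘ μ G Y Z) ≫ μ G X (Y ⊗ Z)) := by
        rw [← associator_naturality]; simp only [Category.assoc]
    _ = (((θ X ⊗ₘ θ Y) ⊗ₘ θ Z) ≫ (μ G X Y ⊗ₘ 𝟙 (G.obj Z))) ≫ μ G (X ⊗ Y) Z ≫
          G.map (α_ X Y Z).hom := by
        rw [← aG]; simp only [Category.assoc]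
    _ = (μ F X Y ⊗ₘ 𝟙 (F.obj Z)) ≫ ((θ (X ⊗ Y) ⊗ₘ θ Z) ≫ μ G (X ⊗ Y) Z) ≫
          G.map (α_ X Y Z).hom := by
        rw [← e2]; simp only [Category.assoc]
    _ = (μ F X Y ⊗ₘ 𝟙 (F.obj Z)) ≫ μ F (X ⊗ Y) Z ≫ θ ((X ⊗ Y) ⊗ Z) ≫ G.map (α_ X Y Z).hom := by
        rw [← hT]; simp only [Category.assoc]

lemma nat_l (hT : ∀ X Y : C, μ F X Y ≫ θ (X ⊗ Y) = (θ X ⊗ₘ θ Y) ≫ μ G X Y)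
    (hU : ε F ≫ θ (𝟙_ C) = ε G) (X : C) :
    F.map (λ_ X).hom ≫ θ X = θ (𝟙_ C ⊗ X) ≫ G.map (λ_ X).hom := by
  have lF : (λ_ (F.obj X)).hom = (ε F ⊗ₘ 𝟙 (F.obj X)) ≫ μ F (𝟙_ C) X ≫ F.map (λ_ X).hom := by
    rw [tensorHom_id, ← left_unitality]
  have lG : (λ_ (G.obj X)).hom = (ε G ⊗ₘ 𝟙 (G.obj X)) ≫ μ G (𝟙_ C) X ≫ G.map (λ_ X).hom := by
    rw [tensorHom_id, ← left_unitality]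
  have e1 : (ε F ⊗ₘ 𝟙 (F.obj X)) ≫ (θ (𝟙_ C) ⊗ₘ θ X) =
      (𝟙 (𝟙_ D) ⊗ₘ θ X) ≫ (ε G ⊗ₘ 𝟙 (G.obj X)) := by
    rw [tensorHom_comp_tensorHom, tensorHom_comp_tensorHom, Category.id_comp, Category.comp_id,
      Category.id_comp, hU]
  rw [← cancel_epi (μ F (𝟙_ C) X), ← cancel_epi (ε F ⊗ₘ 𝟙 (F.obj X))]
  calc (ε F ⊗ₘ 𝟙 (F.obj X)) ≫ μ F (𝟙_ C) X ≫ F.map (λ_ X).hom ≫ θ X
      = ((ε F ⊗ₘ 𝟙 (F.obj X)) ≫ μ F (𝟙_ C) X ≫ F.map (λ_ X).hom) ≫ θ X := by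
        simp only [Category.assoc]
    _ = (λ_ (F.obj X)).hom ≫ θ X := by rw [← lF]
    _ = (𝟙 (𝟙_ D) ⊗ₘ θ X) ≫ (λ_ (G.obj X)).hom := by
        rw [id_tensorHom, leftUnitor_naturality]
    _ = ((𝟙 (𝟙_ D) ⊗ₘ θ X) ≫ (ε G ⊗ₘ 𝟙 (G.obj X))) ≫ μ G (𝟙_ C) X ≫ G.map (λ_ X).hom := by
        rw [lG]; simp only [Category.assoc]
    _ = (ε F ⊗ₘ 𝟙 (F.obj X)) ≫ ((θ (𝟙_ C) ⊗ₘ θ X) ≫ μ G (𝟙_ C) X) ≫ G.map (λ_ X).hom := by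
        rw [← e1]; simp only [Category.assoc]
    _ = (ε F ⊗ₘ 𝟙 (F.obj X)) ≫ μ F (𝟙_ C) X ≫ θ (𝟙_ C ⊗ X) ≫ G.map (λ_ X).hom := by
        rw [← hT]; simp only [Category.assoc]

lemma nat_r (hT : ∀ X Y : C, μ F X Y ≫ θ (X ⊗ Y) = (θ X ⊗ₘ θ Y) ≫ μ G X Y)
    (hU : ε F ≫ θ (𝟙_ C) = ε G) (X : C) :
    F.map (ρ_ X).hom ≫ θ X = θ (X ⊗ 𝟙_ C) ≫ G.map (ρ_ X).hom := by
  have lF : (ρ_ (F.obj X)).hom = (𝟙 (F.obj X) ⊗ₘ ε F) ≫ μ F X (𝟙_ C) ≫ F.map (ρ_ X).hom := by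
    rw [id_tensorHom, ← right_unitality]
  have lG : (ρ_ (G.obj X)).hom = (𝟙 (G.obj X) ⊗ₘ ε G) ≫ μ G X (𝟙_ C) ≫ G.map (ρ_ X).hom := by
    rw [id_tensorHom, ← right_unitality]
  have e1 : (𝟙 (F.obj X) ⊗ₘ ε F) ≫ (θ X ⊗ₘ θ (𝟙_ C)) =
      (θ X ⊗ₘ 𝟙 (𝟙_ D)) ≫ (𝟙 (G.obj X) ⊗ₘ ε G) := by
    rw [tensorHom_comp_tensorHom, tensorHom_comp_tensorHom, Category.id_comp, Category.comp_id,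
      Category.id_comp, hU]
  rw [← cancel_epi (μ F X (𝟙_ C)), ← cancel_epi (𝟙 (F.obj X) ⊗ₘ ε F)]
  calc (𝟙 (F.obj X) ⊗ₘ ε F) ≫ μ F X (𝟙_ C) ≫ F.map (ρ_ X).hom ≫ θ X
      = ((𝟙 (F.obj X) ⊗ₘ ε F) ≫ μ F X (𝟙_ C) ≫ F.map (ρ_ X).hom) ≫ θ X := by
        simp only [Category.assoc]
    _ = (ρ_ (F.obj X)).hom ≫ θ X := by rw [← lF]
    _ = (θ X ⊗ₘ 𝟙 (𝟙_ D)) ≫ (ρ_ (G.obj X)).hom := by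
        rw [tensorHom_id, rightUnitor_naturality]
    _ = ((θ X ⊗ₘ 𝟙 (𝟙_ D)) ≫ (𝟙 (G.obj X) ⊗ₘ ε G)) ≫ μ G X (𝟙_ C) ≫ G.map (ρ_ X).hom := by
        rw [lG]; simp only [Category.assoc]
    _ = (𝟙 (F.obj X) ⊗ₘ ε F) ≫ ((θ X ⊗ₘ θ (𝟙_ C)) ≫ μ G X (𝟙_ C)) ≫ G.map (ρ_ X).hom := by
        rw [← e1]; simp only [Category.assoc]
    _ = (𝟙 (F.obj X) ⊗ₘ ε F) ≫ μ F X (𝟙_ C) ≫ θ (X ⊗ 𝟙_ C) ≫ G.map (ρ_ X).hom := by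
        rw [← hT]; simp only [Category.assoc]

end general

section braided

variable {C : Type u} [Category.{v} C] [MonoidalCategory C] [BraidedCategory C]
variable {D : Type u'} [Category.{v'} D] [MonoidalCategory D] [BraidedCategory D] [IsGroupoid D]
variable (F G : C ⥤ D) [F.LaxBraided] [G.LaxBraided]
variable (θ : ∀ X : C, F.obj X ⟶ G.obj X)

lemma nat_β (hT : ∀ X Y : C, μ F X Y ≫ θ (X ⊗ Y) = (θ X ⊗ₘ θ Y) ≫ μ G X Y) (X Y : C) :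
    F.map (β_ X Y).hom ≫ θ (Y ⊗ X) = θ (X ⊗ Y) ≫ G.map (β_ X Y).hom := by
  rw [← cancel_epi (μ F X Y)]
  calc μ F X Y ≫ F.map (β_ X Y).hom ≫ θ (Y ⊗ X)
      = (β_ (F.obj X) (F.obj Y)).hom ≫ μ F Y X ≫ θ (Y ⊗ X) := by
        rw [Functor.LaxBraided.braided_assoc]
    _ = ((β_ (F.obj X) (F.obj Y)).hom ≫ (θ Y ⊗ₘ θ X)) ≫ μ G Y X := by
        rw [hT]; simp only [Category.assoc]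
    _ = (θ X ⊗ₘ θ Y) ≫ (β_ (G.obj X) (G.obj Y)).hom ≫ μ G Y X := by
        rw [← BraidedCategory.braiding_naturality]; simp only [Category.assoc]
    _ = ((θ X ⊗ₘ θ Y) ≫ μ G X Y) ≫ G.map (β_ X Y).hom := by
        rw [← Functor.LaxBraided.braided]; simp only [Category.assoc]
    _ = μ F X Y ≫ θ (X ⊗ Y) ≫ G.map (β_ X Y).hom := by
        rw [← hT]; simp only [Category.assoc]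

end braided

end Groth.Agent.Lib.Helper12.Picardification
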