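import Groth.Agent.Lib.Helper12.Picardification.Free
import Groth.Agent.Lib.Helper12.Picardification.NatGen

/-!
# The free Picard category: extension of monoidal natural transformations (helper12)
-/

set_option autoImplicit false

universe v v' u u'

namespace Groth.Agent.Lib.Helper12.Picardification

open CategoryTheory MonoidalCategory Functor.LaxMonoidal

variable {A : Type u} [Category.{v} A] [MonoidalCategory A] [SymmetricCategory A]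
variable {P : Type u'} [Category.{v'} P] [MonoidalCategory P] [SymmetricCategory P] [IsGroupoid P]
variable (hP : ∀ X : P, (tensorLeft X).IsEquivalence ∧ (tensorRight X).IsEquivalence)
variable (Ψ Ψ' : PObj A ⥤ P) [Ψ.LaxBraided] [Ψ'.LaxBraided]
variable (τ : incl (A := A) ⋙ Ψ ⟶ incl (A := A) ⋙ Ψ')

/-- the morphism `Ψ W ⊗ Ψ W⁻¹ ⟶ Ψ W ⊗ Ψ' W⁻¹` forced by naturality at `η_W` -/
noncomputable def kInv (W : PObj A) (t : Ψ.obj W ⟶ Ψ'.obj W) :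
    Ψ.obj W ⊗ Ψ.obj W.inv ⟶ Ψ.obj W ⊗ Ψ'.obj W.inv :=
  μ Ψ W W.inv ≫ inv (Ψ.map (ηIso W).hom) ≫ (inv (ε Ψ) ≫ ε Ψ') ≫ Ψ'.map (ηIso W).hom ≫
    inv (μ Ψ' W W.inv) ≫ inv (t ▷ Ψ'.obj W.inv)

/-- the components of the extension -/
noncomputable def θc : ∀ W : PObj A, Ψ.obj W ⟶ Ψ'.obj W
  | PObj.of X => τ.app X
  | PObj.unit => inv (ε Ψ) ≫ ε Ψ'
  | PObj.tensor W W' => inv (μ Ψ W W') ≫ (θc W ⊗ₘ θc W') ≫ μ Ψ' W W'
  | PObj.inv W =>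
      haveI := (hP (Ψ.obj W)).1
      (tensorLeft (Ψ.obj W)).preimage (kInv Ψ Ψ' W (θc W))

lemma θc_of (X : A) : θc hP Ψ Ψ' τ (PObj.of X) = τ.app X := rfl

lemma θc_unit : θc hP Ψ Ψ' τ (𝟙_ (PObj A)) = inv (ε Ψ) ≫ ε Ψ' := rfl

lemma θc_tensor (W W' : PObj A) : θc hP Ψ Ψ' τ (W ⊗ W') =
    inv (μ Ψ W W') ≫ (θc hP Ψ Ψ' τ W ⊗ₘ θc hP Ψ Ψ' τ W') ≫ μ Ψ' W W' := rfl

lemma θc_inv (W : PObj A) :
    Ψ.obj W ◁ θc hP Ψ Ψ' τ W.inv = kInv Ψ Ψ' W (θc hP Ψ Ψ' τ W) := by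
  haveI := (hP (Ψ.obj W)).1
  exact (tensorLeft (Ψ.obj W)).map_preimage (kInv Ψ Ψ' W (θc hP Ψ Ψ' τ W))

lemma θc_T (W W' : PObj A) : μ Ψ W W' ≫ θc hP Ψ Ψ' τ (W ⊗ W') =
    (θc hP Ψ Ψ' τ W ⊗ₘ θc hP Ψ Ψ' τ W') ≫ μ Ψ' W W' := by
  rw [θc_tensor, IsIso.hom_inv_id_assoc]

lemma θc_U : ε Ψ ≫ θc hP Ψ Ψ' τ (𝟙_ (PObj A)) = ε Ψ' := by
  rw [θc_unit, IsIso.hom_inv_id_assoc]

lemma θc_H (W : PObj A) : Ψ.map (ηIso W).hom ≫ θc hP Ψ Ψ' τ (W ⊗ W.inv) =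
    θc hP Ψ Ψ' τ (𝟙_ (PObj A)) ≫ Ψ'.map (ηIso W).hom := by
  rw [θc_tensor, tensorHom_def', θc_inv, kInv, θc_unit]
  simp only [Category.assoc, IsIso.inv_hom_id, Category.comp_id, IsIso.inv_hom_id_assoc,
    IsIso.hom_inv_id_assoc]

lemma θc_nat [NatTrans.IsMonoidal τ] {W₁ W₂ : PObj A} (g : Hom W₁ W₂) :
    Ψ.map (homMk g) ≫ θc hP Ψ Ψ' τ W₂ = θc hP Ψ Ψ' τ W₁ ≫ Ψ'.map (homMk g) := by
  induction g with
  | id X => rw [homMk_id, Ψ.map_id, Ψ'.map_id, Category.id_comp, Category.comp_id]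
  | comp f g hf hg =>
      rw [homMk_comp, Ψ.map_comp, Ψ'.map_comp, Category.assoc, hg, ← Category.assoc, hf,
        Category.assoc]
  | inv f hf =>
      have h1 : homMk f.inv = inv (homMk f) := by
        symm
        apply IsIso.inv_eq_of_hom_inv_id
        exact (isoMk f).hom_inv_id
      rw [h1, Functor.map_inv, Functor.map_inv, IsIso.inv_comp_eq, ← Category.assoc,
        IsIso.eq_comp_inv, hf]
  | tensor f g hf hg =>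
      exact nat_tensor Ψ Ψ' (θc hP Ψ Ψ' τ) (θc_T hP Ψ Ψ' τ) (homMk f) (homMk g) hf hg
  | of f => exact τ.naturality f
  | α X Y Z => exact nat_α Ψ Ψ' (θc hP Ψ Ψ' τ) (θc_T hP Ψ Ψ' τ) X Y Z
  | l X => exact nat_l Ψ Ψ' (θc hP Ψ Ψ' τ) (θc_T hP Ψ Ψ' τ) (θc_U hP Ψ Ψ' τ) X
  | r X => exact nat_r Ψ Ψ' (θc hP Ψ Ψ' τ) (θc_T hP Ψ Ψ' τ) (θc_U hP Ψ Ψ' τ) X
  | β X Y => exact nat_β Ψ Ψ' (θc hP Ψ Ψ' τ) (θc_T hP Ψ Ψ' τ) X Y
  | μ X Y =>
      have h := NatTrans.IsMonoidal.tensor (τ := τ) X Y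
      rw [Functor.LaxMonoidal.comp_μ, Functor.LaxMonoidal.comp_μ] at h
      show Ψ.map (μ (incl (A := A)) X Y) ≫ τ.app (X ⊗ Y) =
        (inv (μ Ψ ((incl (A := A)).obj X) ((incl (A := A)).obj Y)) ≫ (τ.app X ⊗ₘ τ.app Y) ≫
          μ Ψ' ((incl (A := A)).obj X) ((incl (A := A)).obj Y)) ≫ Ψ'.map (μ (incl (A := A)) X Y)
      rw [← cancel_epi (μ Ψ ((incl (A := A)).obj X) ((incl (A := A)).obj Y))]
      simp only [Category.assoc, IsIso.hom_inv_id_assoc] at h ⊢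
      exact h
  | ε =>
      have h := NatTrans.IsMonoidal.unit (τ := τ)
      rw [Functor.LaxMonoidal.comp_ε, Functor.LaxMonoidal.comp_ε] at h
      show Ψ.map (ε (incl (A := A))) ≫ τ.app (𝟙_ A) =
        (inv (ε Ψ) ≫ ε Ψ') ≫ Ψ'.map (ε (incl (A := A)))
      rw [← cancel_epi (ε Ψ)]
      simp only [Category.assoc, IsIso.hom_inv_id_assoc] at h ⊢
      exact h
  | η W => exact θc_H hP Ψ Ψ' τ W

/-- the extension of `τ` -/
noncomputable def θ [NatTrans.IsMonoidal τ] : Ψ ⟶ Ψ' where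
  app := θc hP Ψ Ψ' τ
  naturality := by
    rintro X Y ⟨g⟩
    exact θc_nat hP Ψ Ψ' τ g

instance θ_isMonoidal [NatTrans.IsMonoidal τ] : NatTrans.IsMonoidal (θ hP Ψ Ψ' τ) where
  unit := θc_U hP Ψ Ψ' τ
  tensor X Y := θc_T hP Ψ Ψ' τ X Y

lemma whiskerLeft_θ [NatTrans.IsMonoidal τ] : Functor.whiskerLeft (incl (A := A)) (θ hP Ψ Ψ' τ) = τ := by
  ext X
  rfl

lemma θ_unique [NatTrans.IsMonoidal τ] (θ' : Ψ ⟶ Ψ') [NatTrans.IsMonoidal θ']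
    (h : Functor.whiskerLeft (incl (A := A)) θ' = τ) : θ' = θ hP Ψ Ψ' τ := by
  ext W
  show θ'.app W = θc hP Ψ Ψ' τ W
  have hu := NatTrans.IsMonoidal.unit (τ := θ')
  have e1 : θ'.app (𝟙_ (PObj A)) = inv (ε Ψ) ≫ ε Ψ' := by
    rw [← cancel_epi (ε Ψ), IsIso.hom_inv_id_assoc]; exact hu
  induction W with
  | of X => exact congr_app h X
  | unit => exact e1
  | tensor W W' ih ih' =>
      show θ'.app (W ⊗ W') = θc hP Ψ Ψ' τ (W ⊗ W')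
      rw [θc_tensor, ← ih, ← ih', ← cancel_epi (μ Ψ W W'), IsIso.hom_inv_id_assoc]
      exact NatTrans.IsMonoidal.tensor W W'
  | inv W ih =>
      have hfaith := (hP (Ψ.obj W)).1
      apply (tensorLeft (Ψ.obj W)).map_injective
      show Ψ.obj W ◁ θ'.app W.inv = Ψ.obj W ◁ θc hP Ψ Ψ' τ W.inv
      rw [θc_inv, kInv, ← ih]
      have hn := θ'.naturality (ηIso W).hom
      have ht := NatTrans.IsMonoidal.tensor (τ := θ') W W.inv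
      have e2 : θ'.app (W ⊗ W.inv) =
          inv (Ψ.map (ηIso W).hom) ≫ θ'.app (𝟙_ (PObj A)) ≫ Ψ'.map (ηIso W).hom := by
        rw [← cancel_epi (Ψ.map (ηIso W).hom), IsIso.hom_inv_id_assoc]; exact hn
      have e3 : (Ψ.obj W ◁ θ'.app W.inv) ≫ (θ'.app W ▷ Ψ'.obj W.inv) ≫ μ Ψ' W W.inv =
          μ Ψ W W.inv ≫ θ'.app (W ⊗ W.inv) := by
        rw [ht, ← Category.assoc, ← tensorHom_def']
      rw [← cancel_mono (θ'.app W ▷ Ψ'.obj W.inv), ← cancel_mono (μ Ψ' W W.inv)]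
      simp only [Category.assoc, IsIso.inv_hom_id, IsIso.inv_hom_id_assoc, Category.comp_id]
      rw [e3, e2, e1]
      simp only [Category.assoc]

end Groth.Agent.Lib.Helper12.Picardification
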